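import Mathlib
import Groth.Agent.H70.FinInjDesc.Main
import Groth.Prelude.Def_FlatCA

/-!
# Descent of flatness along injective integral maps, f.p. over polynomial ring (Stacks 0532)

Reduction to the finite injective case through the directed system of finitely generated
subalgebras, given the limit-of-flatness statement as a hypothesis.
-/

set_option autoImplicit false
set_option linter.style.haveILetI false
universe u
open TensorProduct Function

namespace Groth.Agent.H70.IntDesc

variable (R S : Type u) [CommRing R] [CommRing S] [Algebra R S]

/-- index type: finitely generated subalgebras -/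
abbrev FGSub : Type u := {T : Subalgebra R S // T.FG}

instance : Preorder (FGSub R S) := inferInstance

/-- the stage ring -/
abbrev stage (T : FGSub R S) : Type u := T.1

/-- transition maps -/
def trans (T T' : FGSub R S) (h : T ≤ T') : stage R S T →ₐ[R] stage R S T' :=
  Subalgebra.inclusion h

theorem isDirectedColimitRing :
    FlatCA.IsDirectedColimitRing (stage R S)
      (fun i j h => (trans R S i j h).toRingHom) S := by
  refine ⟨⟨fun T T' => ⟨⟨T.1 ⊔ T'.1, T.2.sup T'.2⟩,
      (le_sup_left : T.1 ≤ T.1 ⊔ T'.1), (le_sup_right : T'.1 ≤ T.1 ⊔ T'.1)⟩⟩,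
    ⟨⟨⊥, Subalgebra.fg_bot⟩⟩, ?_, ?_, ?_, ?_, ?_⟩
  · intro i
    ext x
    rfl
  · intro i j k hij hjk
    ext x
    rfl
  · intro i j h
    ext x
    rfl
  · intro a
    refine ⟨⟨Algebra.adjoin R {a}, Subalgebra.fg_adjoin_finset {a} |> fun h => by simpa using h⟩,
      ⟨a, Algebra.subset_adjoin (Set.mem_singleton a)⟩, rfl⟩
  · intro i x hx
    refine ⟨i, le_rfl, ?_⟩
    have : x = 0 := Subtype.ext hx
    rw [this, map_zero]

end Groth.Agent.H70.IntDesc

namespace Groth.Agent.H70.IntDesc

variable (R S : Type u) [CommRing R] [CommRing S] [Algebra R S]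

/-- If some finitely generated subalgebra stage of an injective integral extension already has
flat base change, the module is flat (via descent along finite injective maps). -/
theorem flat_of_exists_stage [Algebra.IsIntegral R S] (hinj : Injective (algebraMap R S))
    (M : Type u) [AddCommGroup M] [Module R M]
    (h : ∃ T : FGSub R S, Module.Flat (stage R S T) (stage R S T ⊗[R] M)) : Module.Flat R M := by
  obtain ⟨T, hT⟩ := h
  haveI : Algebra.IsIntegral R T.1 :=
    Algebra.IsIntegral.of_injective T.1.val Subtype.val_injective
  haveI : Algebra.FiniteType R T.1 := (Subalgebra.fg_iff_finiteType T.1).mp T.2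
  haveI : Module.Finite R T.1 := Algebra.IsIntegral.finite
  have hinjT : Injective (algebraMap R T.1) := by
    intro a b hab
    apply hinj
    have := congrArg (Subtype.val) hab
    simpa using this
  haveI : Module.Flat T.1 (T.1 ⊗[R] M) := hT
  exact Groth.Agent.H70.FinInjDesc.flat_of_finite_injective R T.1 hinjT M

end Groth.Agent.H70.IntDesc
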